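import Groth.Agent.GaChar.Basic
import Mathlib.Algebra.MvPolynomial.Expand
import Mathlib.Data.Nat.Choose.Dvd
import Mathlib.NumberTheory.Padics.PadicVal.Basic

/-! Symmetric polynomial two-cocycles of the additive group in characteristic `p`. -/

namespace Groth.Agent.GaChar

open MvPolynomial

universe u v

variable {R : Type u} [CommRing R]

/-- The cocycle expression. -/
noncomputable def coc : MvPolynomial (Fin 2) R →ₗ[R] MvPolynomial (Fin 3) R :=
  (aeval ![X 0, X 1 + X 2] : MvPolynomial (Fin 2) R →ₐ[R] _).toLinearMap +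
    (aeval ![X 1, X 2] : MvPolynomial (Fin 2) R →ₐ[R] _).toLinearMap -
    (aeval ![X 0 + X 1, X 2] : MvPolynomial (Fin 2) R →ₐ[R] _).toLinearMap -
    (aeval ![X 0, X 1] : MvPolynomial (Fin 2) R →ₐ[R] _).toLinearMap

theorem coc_apply (F : MvPolynomial (Fin 2) R) : coc F =
    aeval ![X 0, X 1 + X 2] F + aeval ![X 1, X 2] F - aeval ![X 0 + X 1, X 2] F -
      (aeval ![X 0, X 1] F : MvPolynomial (Fin 3) R) := rfl

/-- Symmetric two-cocycles. -/
def IsCoc (F : MvPolynomial (Fin 2) R) : Prop :=
  (aeval ![X 1, X 0] F : MvPolynomial (Fin 2) R) = F ∧ coc F = 0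

theorem IsCoc.add {F G : MvPolynomial (Fin 2) R} (hF : IsCoc F) (hG : IsCoc G) : IsCoc (F + G) :=
  ⟨by rw [map_add, hF.1, hG.1], by rw [map_add, hF.2, hG.2, add_zero]⟩

theorem IsCoc.sub {F G : MvPolynomial (Fin 2) R} (hF : IsCoc F) (hG : IsCoc G) : IsCoc (F - G) :=
  ⟨by rw [map_sub, hF.1, hG.1], by rw [map_sub, hF.2, hG.2, sub_zero]⟩

theorem isCoc_zero : IsCoc (0 : MvPolynomial (Fin 2) R) := ⟨map_zero _, map_zero _⟩

theorem IsCoc.C_mul {F : MvPolynomial (Fin 2) R} (hF : IsCoc F) (r : R) : IsCoc (C r * F) := by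
  rw [← smul_eq_C_mul]
  exact ⟨by rw [map_smul, hF.1], by rw [map_smul, hF.2, smul_zero]⟩

/-- The coboundary of a polynomial in one variable. -/
noncomputable def cob (G : Polynomial R) : MvPolynomial (Fin 2) R :=
  Polynomial.aeval (X 0 + X 1 : MvPolynomial (Fin 2) R) G - Polynomial.aeval (X 0 : MvPolynomial (Fin 2) R) G
    - Polynomial.aeval (X 1 : MvPolynomial (Fin 2) R) G

theorem isCoc_cob (G : Polynomial R) : IsCoc (cob G) := by
  refine ⟨?_, ?_⟩
  · simp only [cob, map_sub, ← Polynomial.aeval_algHom_apply, map_add, aeval_X, Matrix.cons_val_zero,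
      Matrix.cons_val_one]
    rw [add_comm (X 1 : MvPolynomial (Fin 2) R) (X 0)]
    abel
  · rw [coc_apply]
    simp only [cob, map_sub, ← Polynomial.aeval_algHom_apply, map_add, aeval_X, Matrix.cons_val_zero,
      Matrix.cons_val_one, add_assoc]
    abel

/-- The coefficients of the universal cocycle. -/
noncomputable def univS (p : ℕ) : MvPolynomial (Fin 2) R :=
  ∑ j ∈ Finset.Ioo 0 p, C ((p.choose j / p : ℕ) : R) * X 0 ^ j * X 1 ^ (p - j)

theorem map_univS {S : Type v} [CommRing S] (φ : R →+* S) (p : ℕ) : MvPolynomial.map φ (univS p) = univS p := by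
  simp [univS]

theorem isCoc_univS (p : ℕ) [hp : Fact p.Prime] : IsCoc (univS p : MvPolynomial (Fin 2) R) := by
  have hZ : IsCoc (univS p : MvPolynomial (Fin 2) ℤ) := by
    have key : C (p : ℤ) * (univS p : MvPolynomial (Fin 2) ℤ) = (X 0 + X 1) ^ p - X 0 ^ p - X 1 ^ p := by
      rw [add_pow, Finset.range_eq_Ico, Finset.sum_eq_sum_Ico_succ_bot (Nat.succ_pos p),
        Finset.sum_Ico_succ_top (show 1 ≤ p from hp.out.one_le), show Finset.Ico 1 p = Finset.Ioo 0 p from Finset.ext fun k => by
          simp only [Finset.mem_Ico, Finset.mem_Ioo]; omega,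
        univS, Finset.mul_sum]
      simp only [pow_zero, one_mul, Nat.sub_zero, Nat.choose_zero_right, Nat.cast_one, mul_one, Nat.sub_self,
        Nat.choose_self]
      rw [Finset.sum_congr rfl (g := fun j => X 0 ^ j * X 1 ^ (p - j) * (p.choose j : MvPolynomial (Fin 2) ℤ))
        fun j hj => ?_]
      · ring
      · obtain ⟨h0, h1⟩ := Finset.mem_Ioo.mp hj
        rw [← map_natCast (C : ℤ →+* MvPolynomial (Fin 2) ℤ) (p.choose j)]
        conv_rhs => rw [← Nat.mul_div_cancel' (Nat.Prime.dvd_choose_self hp.out (by omega) h1), Nat.cast_mul, map_mul]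
        ring
    have hp0 : (C (p : ℤ) : MvPolynomial (Fin 2) ℤ) ≠ 0 := by simp [hp.out.ne_zero]
    have hp3 : (C (p : ℤ) : MvPolynomial (Fin 3) ℤ) ≠ 0 := by simp [hp.out.ne_zero]
    refine ⟨mul_left_cancel₀ hp0 ?_, mul_left_cancel₀ hp3 ?_⟩
    · have h := congrArg (aeval ![X 1, X 0] : MvPolynomial (Fin 2) ℤ →ₐ[ℤ] MvPolynomial (Fin 2) ℤ) key
      rw [map_mul, aeval_C] at h
      rw [key, show (C (p : ℤ) : MvPolynomial (Fin 2) ℤ) = algebraMap ℤ _ (p : ℤ) from rfl, h]
      simp only [map_sub, map_pow, map_add, aeval_X, Matrix.cons_val_zero, Matrix.cons_val_one]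
      ring
    · rw [mul_zero, ← smul_eq_C_mul, ← map_smul, smul_eq_C_mul, key, coc_apply]
      simp only [map_sub, map_pow, map_add, aeval_X, Matrix.cons_val_zero, Matrix.cons_val_one]
      ring
  have hn : ∀ (σ : Type) (v : Fin 2 → MvPolynomial σ ℤ) (w : Fin 2 → MvPolynomial σ R),
      (∀ i, MvPolynomial.map (Int.castRingHom R) (v i) = w i) → ∀ F : MvPolynomial (Fin 2) ℤ,
        MvPolynomial.map (Int.castRingHom R) (aeval v F) = aeval w (MvPolynomial.map (Int.castRingHom R) F) := by
    intro σ v w hvw F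
    induction F using MvPolynomial.induction_on with
    | C a => simp
    | add f g hf hg => simp only [map_add, hf, hg]
    | mul_X f i hf => simp only [map_mul, hf, aeval_X, map_X, hvw]
  obtain ⟨h1, h2⟩ := hZ
  refine ⟨?_, ?_⟩
  · have h := congrArg (MvPolynomial.map (Int.castRingHom R)) h1
    rw [hn _ _ ![X 1, X 0] (fun i => by fin_cases i <;> simp), map_univS] at h
    exact h
  · have h := congrArg (MvPolynomial.map (Int.castRingHom R)) h2
    rw [coc_apply, map_zero, map_sub, map_sub, map_add,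
      hn _ _ ![X 0, X 1 + X 2] (fun i => by fin_cases i <;> simp),
      hn _ _ ![X 1, X 2] (fun i => by fin_cases i <;> simp),
      hn _ _ ![X 0 + X 1, X 2] (fun i => by fin_cases i <;> simp),
      hn _ _ ![X 0, X 1] (fun i => by fin_cases i <;> simp), map_univS] at h
    exact h

theorem IsCoc.frobenius (p : ℕ) [Fact p.Prime] [CharP R p] (m : ℕ) {F : MvPolynomial (Fin 2) R} (hF : IsCoc F) :
    IsCoc (aeval ![X 0 ^ p ^ m, X 1 ^ p ^ m] F : MvPolynomial (Fin 2) R) := by
  let E₂ : MvPolynomial (Fin 2) R →ₐ[R] MvPolynomial (Fin 2) R := aeval fun s => X s ^ p ^ m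
  let E₃ : MvPolynomial (Fin 3) R →ₐ[R] MvPolynomial (Fin 3) R := aeval fun s => X s ^ p ^ m
  have e : (aeval ![X 0 ^ p ^ m, X 1 ^ p ^ m] F : MvPolynomial (Fin 2) R) = E₂ F := by
    congr 2
    ext1 s; fin_cases s <;> rfl
  have comm3 : ∀ v : Fin 2 → MvPolynomial (Fin 3) R, (∀ s, E₃ (v s) = v s ^ p ^ m) →
      aeval v (E₂ F) = E₃ (aeval v F) := fun v hv => by
    rw [comp_aeval_apply, comp_aeval_apply]
    congr 2
    ext1 s
    rw [map_pow, aeval_X, hv]
  have comm2 : (aeval ![X 1, X 0] (E₂ F) : MvPolynomial (Fin 2) R) = E₂ (aeval ![X 1, X 0] F) := by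
    rw [comp_aeval_apply, comp_aeval_apply]
    congr 2
    ext1 s
    fin_cases s <;> simp [E₂]
  rw [e]
  refine ⟨by rw [comm2, hF.1], ?_⟩
  rw [coc_apply, comm3, comm3, comm3, comm3, ← map_add, ← map_sub, ← map_sub]
  · exact (congrArg E₃ (coc_apply F).symm).trans (by rw [hF.2, map_zero])
  all_goals intro s
  all_goals fin_cases s <;> simp [E₃, add_pow_char_pow]

/-- The exponent `(a, b, c)`. -/
noncomputable def tr (a b c : ℕ) : Fin 3 →₀ ℕ := Finsupp.single 0 a + Finsupp.single 1 b + Finsupp.single 2 c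

theorem tr_inj {a b c a' b' c' : ℕ} : tr a b c = tr a' b' c' ↔ a = a' ∧ b = b' ∧ c = c' :=
  ⟨fun h => ⟨by simpa [tr] using DFunLike.congr_fun h 0, by simpa [tr] using DFunLike.congr_fun h 1,
    by simpa [tr] using DFunLike.congr_fun h 2⟩, fun h => by rw [h.1, h.2.1, h.2.2]⟩

theorem mono_tr (a b c : ℕ) : (X 0 ^ a * X 1 ^ b * X 2 ^ c : MvPolynomial (Fin 3) R) = monomial (tr a b c) 1 := by
  simp [X_pow_eq_monomial, monomial_mul, tr]

theorem monomial_pr (i j : ℕ) (r : R) : monomial (pr i j) r = C r * X 0 ^ i * X 1 ^ j := by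
  simp [X_pow_eq_monomial, C_mul_monomial, monomial_mul, pr]

theorem coeff_left (F : MvPolynomial (Fin 2) R) (a b c : ℕ) :
    coeff (tr a b c) (aeval ![X 0, X 1 + X 2] F : MvPolynomial (Fin 3) R) =
      ((b + c).choose b : R) * coeff (pr a (b + c)) F := by
  induction F using MvPolynomial.induction_on' with
  | add f g hf hg => rw [map_add, coeff_add, hf, hg, coeff_add, mul_add]
  | monomial e r =>
    rw [eq_pr e, monomial_pr, map_mul, map_mul, map_pow, map_pow, aeval_C, aeval_X, aeval_X,
      Matrix.cons_val_zero, Matrix.cons_val_one, Matrix.cons_val_zero, add_pow, Finset.mul_sum, coeff_sum, ← monomial_pr, coeff_monomial]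
    simp only [pr_inj]
    have key : ∀ k : ℕ, coeff (tr a b c) (algebraMap R (MvPolynomial (Fin 3) R) r * X 0 ^ e 0 *
        (X 1 ^ k * X 2 ^ (e 1 - k) * ((e 1).choose k : MvPolynomial (Fin 3) R))) =
        if a = e 0 ∧ b = k ∧ c = e 1 - k then r * ((e 1).choose k : R) else 0 := fun k => by
      rw [show algebraMap R (MvPolynomial (Fin 3) R) r * X 0 ^ e 0 *
        (X 1 ^ k * X 2 ^ (e 1 - k) * ((e 1).choose k : MvPolynomial (Fin 3) R)) =
        C (r * ((e 1).choose k : R)) * (X 0 ^ e 0 * X 1 ^ k * X 2 ^ (e 1 - k)) by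
          rw [algebraMap_eq, map_mul, map_natCast]; ring,
        coeff_C_mul, mono_tr, coeff_monomial]
      simp only [tr_inj, eq_comm (a := e 0), eq_comm (a := k), eq_comm (a := e 1 - k)]
      split_ifs <;> simp
    rw [Finset.sum_congr rfl fun k _ => key k]
    split_ifs with h
    · rw [Finset.sum_eq_single b, if_pos ⟨h.1.symm, rfl, by omega⟩, h.2, mul_comm]
      · exact fun k _ hk => if_neg fun h' => hk h'.2.1.symm
      · exact fun hb => absurd (Finset.mem_range.mpr (by omega)) hb
    · rw [mul_zero]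
      exact Finset.sum_eq_zero fun k hk => if_neg fun h' => h ⟨h'.1.symm, by
        have := Finset.mem_range.mp hk; omega⟩

theorem coeff_right (F : MvPolynomial (Fin 2) R) (a b c : ℕ) :
    coeff (tr a b c) (aeval ![X 0 + X 1, X 2] F : MvPolynomial (Fin 3) R) =
      ((a + b).choose a : R) * coeff (pr (a + b) c) F := by
  induction F using MvPolynomial.induction_on' with
  | add f g hf hg => rw [map_add, coeff_add, hf, hg, coeff_add, mul_add]
  | monomial e r =>
    rw [eq_pr e, monomial_pr, map_mul, map_mul, map_pow, map_pow, aeval_C, aeval_X, aeval_X,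
      Matrix.cons_val_zero, Matrix.cons_val_one, Matrix.cons_val_zero, add_pow, Finset.mul_sum, Finset.sum_mul, coeff_sum, ← monomial_pr,
      coeff_monomial]
    simp only [pr_inj]
    have key : ∀ k : ℕ, coeff (tr a b c) (algebraMap R (MvPolynomial (Fin 3) R) r *
        (X 0 ^ k * X 1 ^ (e 0 - k) * ((e 0).choose k : MvPolynomial (Fin 3) R)) * X 2 ^ e 1) =
        if a = k ∧ b = e 0 - k ∧ c = e 1 then r * ((e 0).choose k : R) else 0 := fun k => by
      rw [show algebraMap R (MvPolynomial (Fin 3) R) r *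
        (X 0 ^ k * X 1 ^ (e 0 - k) * ((e 0).choose k : MvPolynomial (Fin 3) R)) * X 2 ^ e 1 =
        C (r * ((e 0).choose k : R)) * (X 0 ^ k * X 1 ^ (e 0 - k) * X 2 ^ e 1) by
          rw [algebraMap_eq, map_mul, map_natCast]; ring,
        coeff_C_mul, mono_tr, coeff_monomial]
      simp only [tr_inj, eq_comm (a := e 1), eq_comm (a := k), eq_comm (a := e 0 - k)]
      split_ifs <;> simp
    rw [Finset.sum_congr rfl fun k _ => key k]
    split_ifs with h
    · rw [Finset.sum_eq_single a, if_pos ⟨rfl, by omega, h.2.symm⟩, h.1, mul_comm]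
      · exact fun k _ hk => if_neg fun h' => hk h'.1.symm
      · exact fun hb => absurd (Finset.mem_range.mpr (by omega)) hb
    · rw [mul_zero]
      exact Finset.sum_eq_zero fun k hk => if_neg fun h' => h ⟨by
        have := Finset.mem_range.mp hk; omega, h'.2.2.symm⟩

theorem coeff_last (F : MvPolynomial (Fin 2) R) (a b c : ℕ) :
    coeff (tr a b c) (aeval ![X 1, X 2] F : MvPolynomial (Fin 3) R) = if a = 0 then coeff (pr b c) F else 0 := by
  induction F using MvPolynomial.induction_on' with
  | add f g hf hg => rw [map_add, coeff_add, hf, hg, coeff_add]; split_ifs <;> simp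
  | monomial e r =>
    rw [eq_pr e, monomial_pr, map_mul, map_mul, map_pow, map_pow, aeval_C, aeval_X, aeval_X,
      Matrix.cons_val_zero, Matrix.cons_val_one, Matrix.cons_val_zero, ← monomial_pr, coeff_monomial, algebraMap_eq,
      show (C r : MvPolynomial (Fin 3) R) * X 1 ^ e 0 * X 2 ^ e 1 = C r * (X 0 ^ 0 * X 1 ^ e 0 * X 2 ^ e 1) by ring, coeff_C_mul, mono_tr,
      coeff_monomial]
    simp only [tr_inj, pr_inj]
    by_cases ha : a = 0
    · subst ha; simp
    · simp [ha, Ne.symm ha]

theorem coeff_first (F : MvPolynomial (Fin 2) R) (a b c : ℕ) :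
    coeff (tr a b c) (aeval ![X 0, X 1] F : MvPolynomial (Fin 3) R) = if c = 0 then coeff (pr a b) F else 0 := by
  induction F using MvPolynomial.induction_on' with
  | add f g hf hg => rw [map_add, coeff_add, hf, hg, coeff_add]; split_ifs <;> simp
  | monomial e r =>
    rw [eq_pr e, monomial_pr, map_mul, map_mul, map_pow, map_pow, aeval_C, aeval_X, aeval_X,
      Matrix.cons_val_zero, Matrix.cons_val_one, Matrix.cons_val_zero, ← monomial_pr, coeff_monomial, algebraMap_eq,
      show (C r : MvPolynomial (Fin 3) R) * X 0 ^ e 0 * X 1 ^ e 1 = C r * (X 0 ^ e 0 * X 1 ^ e 1 * X 2 ^ 0) by ring, coeff_C_mul, mono_tr,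
      coeff_monomial]
    simp only [tr_inj, pr_inj]
    by_cases hc : c = 0
    · subst hc; simp
    · simp [hc, Ne.symm hc]

theorem IsCoc.symm {F : MvPolynomial (Fin 2) R} (hF : IsCoc F) (i j : ℕ) :
    coeff (pr i j) F = coeff (pr j i) F := by
  have key : ∀ G : MvPolynomial (Fin 2) R,
      coeff (pr i j) (aeval ![X 1, X 0] G : MvPolynomial (Fin 2) R) = coeff (pr j i) G := fun G => by
    induction G using MvPolynomial.induction_on' with
    | add f g hf hg => rw [map_add, coeff_add, hf, hg, coeff_add]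
    | monomial e r =>
      rw [eq_pr e, monomial_pr, map_mul, map_mul, map_pow, map_pow, aeval_C, aeval_X, aeval_X,
        Matrix.cons_val_zero, Matrix.cons_val_one, Matrix.cons_val_zero, ← monomial_pr, coeff_monomial, algebraMap_eq,
        show (C r : MvPolynomial (Fin 2) R) * X 1 ^ e 0 * X 0 ^ e 1 = C r * X 0 ^ e 1 * X 1 ^ e 0 by ring, ← monomial_pr, coeff_monomial]
      simp only [pr_inj, and_comm]
  rw [← key F, hF.1]

theorem IsCoc.rel {F : MvPolynomial (Fin 2) R} (hF : IsCoc F) (a b c : ℕ) :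
    ((b + c).choose b : R) * coeff (pr a (b + c)) F + (if a = 0 then coeff (pr b c) F else 0) =
      ((a + b).choose a : R) * coeff (pr (a + b) c) F + (if c = 0 then coeff (pr a b) F else 0) := by
  have h := congrArg (coeff (tr a b c)) hF.2
  rw [coc_apply, coeff_sub, coeff_sub, coeff_add, coeff_left, coeff_right, coeff_last, coeff_first, coeff_zero] at h
  linear_combination h

theorem coeff_cob (G : Polynomial R) (i j : ℕ) (hi : 0 < i) (hj : 0 < j) :
    coeff (pr i j) (cob G) = ((i + j).choose i : R) * G.coeff (i + j) := by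
  have h := coeff_aeval_sum G i j
  have hz : ∀ (s t : Fin 2) (e : Fin 2 →₀ ℕ), s ≠ t → e t ≠ 0 →
      coeff e (Polynomial.aeval (X s : MvPolynomial (Fin 2) R) G) = 0 := fun s t e hst he => by
    rw [Polynomial.aeval_eq_sum_range, coeff_sum]
    refine Finset.sum_eq_zero fun k _ => ?_
    rw [coeff_smul, coeff_X_pow, if_neg, smul_zero]
    intro he'
    exact he (by rw [← he', Finsupp.single_eq_of_ne (Ne.symm hst)])
  rw [cob, coeff_sub, coeff_sub, h, hz 0 1 _ (by decide) (by simp; omega), hz 1 0 _ (by decide) (by simp; omega),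
    sub_zero, sub_zero]

theorem coeff_cob_zero (G : Polynomial R) : coeff (pr 0 0) (cob G) = -G.coeff 0 := by
  rw [show pr 0 0 = (0 : Fin 2 →₀ ℕ) by simp [pr], ← constantCoeff_eq]
  simp [cob, Polynomial.aeval_def, Polynomial.hom_eval₂, ← Polynomial.coeff_zero_eq_eval_zero]

variable (p : ℕ) [Fact p.Prime]

theorem coeff_univS (i j : ℕ) :
    coeff (pr i j) (univS p : MvPolynomial (Fin 2) R) =
      if i + j = p ∧ 0 < i ∧ 0 < j then ((p.choose i / p : ℕ) : R) else 0 := by
  rw [univS, coeff_sum]
  have key : ∀ k, coeff (pr i j) (C ((p.choose k / p : ℕ) : R) * X 0 ^ k * X 1 ^ (p - k)) =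
      if i = k ∧ j = p - k then ((p.choose k / p : ℕ) : R) else 0 := fun k => by
    rw [← monomial_pr, coeff_monomial]
    simp only [pr_inj, eq_comm (a := k), eq_comm (a := p - k)]
  rw [Finset.sum_congr rfl fun k _ => key k]
  split_ifs with h
  · rw [Finset.sum_eq_single i, if_pos ⟨rfl, by omega⟩]
    · exact fun k _ hk => if_neg fun h' => hk h'.1.symm
    · exact fun hb => absurd (Finset.mem_Ioo.mpr (by omega)) hb
  · refine Finset.sum_eq_zero fun k hk => if_neg fun h' => h ?_
    have := Finset.mem_Ioo.mp hk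
    omega

/-- The twisted universal cocycle. -/
noncomputable def twS (m : ℕ) : MvPolynomial (Fin 2) R :=
  aeval ![X 0 ^ p ^ m, X 1 ^ p ^ m] (univS p : MvPolynomial (Fin 2) R)

theorem twS_eq (m : ℕ) : (twS p m : MvPolynomial (Fin 2) R) = expand (p ^ m) (univS p) := by
  rw [twS]
  exact AlgHom.congr_fun (algHom_ext fun s => by fin_cases s <;> simp) _

theorem coeff_twS_eq_zero (m : ℕ) {i j : ℕ} (h : i + j ≠ p ^ (m + 1)) :
    coeff (pr i j) (twS p m : MvPolynomial (Fin 2) R) = 0 := by
  have hq : p ^ m ≠ 0 := pow_ne_zero _ (Fact.out : p.Prime).ne_zero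
  rw [twS_eq]
  by_cases hd : p ^ m ∣ i ∧ p ^ m ∣ j
  · obtain ⟨⟨a, rfl⟩, b, rfl⟩ := hd
    rw [show pr (p ^ m * a) (p ^ m * b) = p ^ m • pr a b by simp [pr, smul_add], coeff_expand_smul _ hq, coeff_univS,
      if_neg]
    intro h'
    exact h (by rw [← mul_add, h'.1, pow_succ])
  · rcases not_and_or.mp hd with hd | hd
    · exact coeff_expand_of_not_dvd _ (i := 0) (by simpa using hd)
    · exact coeff_expand_of_not_dvd _ (i := 1) (by simpa using hd)

theorem coeff_twS_base (m : ℕ) :
    coeff (pr (p ^ m) (p ^ (m + 1) - p ^ m)) (twS p m : MvPolynomial (Fin 2) R) = 1 := by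
  have hp : p.Prime := Fact.out
  rw [twS_eq, show pr (p ^ m) (p ^ (m + 1) - p ^ m) = p ^ m • pr 1 (p - 1) by
    ext s; fin_cases s <;> simp [pr, pow_succ, Nat.mul_sub], coeff_expand_smul _ (pow_ne_zero _ hp.ne_zero), coeff_univS,
    if_pos (by have := hp.two_le; omega), Nat.choose_one_right, Nat.div_self hp.pos, Nat.cast_one]

theorem isCoc_twS [CharP R p] (m : ℕ) : IsCoc (twS p m : MvPolynomial (Fin 2) R) :=
  (isCoc_univS p).frobenius p m

theorem choose_pow_digit [CharP R p] : ∀ (l i : ℕ), (i.choose (p ^ l) : R) = ((i / p ^ l % p : ℕ) : R) := by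
  have hp : p.Prime := Fact.out
  intro l
  induction l with
  | zero => intro i; rw [pow_zero, Nat.choose_one_right, Nat.div_one, (CharP.natCast_eq_natCast R p).mpr (Nat.mod_modEq i p).symm]
  | succ l ih =>
    intro i
    rw [choose_lucas p i (p ^ (l + 1)), pow_succ, Nat.mul_mod_left, Nat.choose_zero_right, Nat.cast_one, one_mul,
      Nat.mul_div_cancel _ hp.pos, ih, Nat.div_div_eq_div_mul, mul_comm p]

/-- A symmetric cocycle is determined by its values at the powers of `p`. -/
theorem IsCoc.step [CharP R p] {F : MvPolynomial (Fin 2) R} (hF : IsCoc F) {n i l : ℕ} (hi : i < n)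
    (hd : i / p ^ l % p ≠ 0) (h0 : coeff (pr (p ^ l) (n - p ^ l)) F = 0) : coeff (pr i (n - i)) F = 0 := by
  have hp : p.Prime := Fact.out
  have hle : p ^ l ≤ i := by
    by_contra hlt
    exact hd (by rw [Nat.div_eq_of_lt (not_le.mp hlt), Nat.zero_mod])
  rcases hle.eq_or_lt with heq | hlt
  · rw [← heq]; exact h0
  have hu : IsUnit (i.choose (p ^ l) : R) := by
    rw [choose_pow_digit p]
    have h1 : ((i / p ^ l % p : ℕ) : ZMod p) ≠ 0 := fun h => hd (Nat.eq_zero_of_dvd_of_lt
      ((ZMod.natCast_eq_zero_iff _ _).mp h) (Nat.mod_lt _ hp.pos))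
    have h2 := (IsUnit.mk0 _ h1).map (ZMod.castHom (dvd_refl p) R)
    rwa [map_natCast] at h2
  have h := hF.rel (p ^ l) (i - p ^ l) (n - i)
  rw [show i - p ^ l + (n - i) = n - p ^ l by omega, show p ^ l + (i - p ^ l) = i by omega, h0, mul_zero,
    if_neg (pow_ne_zero _ hp.ne_zero), if_neg (by omega), add_zero, add_zero] at h
  exact hu.mul_right_eq_zero.mp h.symm

theorem exists_digit : ∀ (i : ℕ), i ≠ 0 → ∃ l, i / p ^ l % p ≠ 0 := by
  have hp : p.Prime := Fact.out
  intro i hi
  refine ⟨Nat.log p i, ?_⟩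
  rw [Nat.mod_eq_of_lt]
  · exact (Nat.div_pos (Nat.pow_log_le_self p hi) (pow_pos hp.pos _)).ne'
  · rw [Nat.div_lt_iff_lt_mul (pow_pos hp.pos _), ← pow_succ']
    exact Nat.lt_pow_succ_log_self hp.one_lt i

open Classical in
/-- The position at which the homogeneous part of degree `n` is normalised. -/
noncomputable def base (n : ℕ) : ℕ :=
  if ∃ m, n = p ^ (m + 1) then padicValNat p n - 1 else padicValNat p n

theorem base_pow (m : ℕ) : base p (p ^ (m + 1)) = m := by
  rw [base, if_pos ⟨m, rfl⟩, padicValNat.prime_pow, Nat.add_sub_cancel]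

theorem pow_base_lt {n : ℕ} (hn : 2 ≤ n) : p ^ base p n < n := by
  have hp : p.Prime := Fact.out
  rw [base]
  split_ifs with h
  · obtain ⟨m, rfl⟩ := h
    rw [padicValNat.prime_pow, Nat.add_sub_cancel]
    exact Nat.pow_lt_pow_right hp.one_lt (Nat.lt_succ_self m)
  · refine lt_of_le_of_ne (Nat.le_of_dvd (by omega) pow_padicValNat_dvd) fun he => h ?_
    rcases Nat.eq_zero_or_pos (padicValNat p n) with h0 | h0
    · rw [h0, pow_zero] at he; omega
    · exact ⟨padicValNat p n - 1, by rw [Nat.sub_add_cancel h0]; exact he.symm⟩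

theorem IsCoc.eq_zero [CharP R p] {F : MvPolynomial (Fin 2) R} (hF : IsCoc F) (h00 : coeff (pr 0 0) F = 0)
    (hb : ∀ n, 2 ≤ n → coeff (pr (p ^ base p n) (n - p ^ base p n)) F = 0) : F = 0 := by
  have hp : p.Prime := Fact.out
  have h0n : ∀ n, coeff (pr 0 n) F = 0 := fun n => by
    rcases Nat.eq_zero_or_pos n with rfl | hn
    · exact h00
    have h := hF.rel 0 0 n
    simp [hn.ne'] at h
    exact h
  -- the values at the powers of `p`
  have hpow : ∀ n, 2 ≤ n → ∀ l, p ^ l < n → coeff (pr (p ^ l) (n - p ^ l)) F = 0 := by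
    intro n hn l hl
    have hb0 := hb n hn
    have hsym : coeff (pr (p ^ l) (n - p ^ l)) F = coeff (pr (n - p ^ l) (n - (n - p ^ l))) F := by
      rw [show n - (n - p ^ l) = p ^ l by omega]; exact hF.symm _ _
    have hlt : n - p ^ l < n := by have := pow_pos hp.pos l; omega
    by_cases hn' : ∃ m, n = p ^ (m + 1)
    · obtain ⟨m, rfl⟩ := hn'
      rw [base_pow] at hb0
      have hlm : l ≤ m := by
        by_contra hlm
        exact absurd hl (not_lt.mpr (Nat.pow_le_pow_right hp.pos (by omega)))
      rcases hlm.eq_or_lt with rfl | hlm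
      · exact hb0
      rw [hsym]
      refine hF.step p hlt ?_ hb0
      have h1 : p ^ l < p ^ m := Nat.pow_lt_pow_right hp.one_lt hlm
      have h2 : (p ^ (m + 1) - p ^ l) / p ^ m = p - 1 := by
        refine Nat.div_eq_of_lt_le ?_ ?_
        · rw [pow_succ, Nat.mul_comm (p - 1), Nat.mul_sub, Nat.mul_one]; omega
        · rw [Nat.sub_add_cancel hp.one_le, pow_succ']; have := pow_pos hp.pos l; have h3 := pow_pos hp.pos m
          have := Nat.le_mul_of_pos_left (p ^ m) hp.pos; omega
      rw [h2, Nat.mod_eq_of_lt (by have := hp.pos; omega)]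
      have := hp.two_le
      omega
    · have hbase : base p n = padicValNat p n := if_neg hn'
      have hlt0 := pow_base_lt p hn
      rw [hbase] at hb0 hlt0
      obtain ⟨k, hk⟩ := pow_padicValNat_dvd (p := p) (n := n)
      generalize hv : padicValNat p n = v at hb0 hlt0 hk
      have hknd : ¬ p ∣ k := fun hd => by
        refine absurd ?_ (pow_succ_padicValNat_not_dvd (p := p) (n := n) (by omega))
        rw [hv, hk, pow_succ]
        exact Nat.mul_dvd_mul_left _ hd
      have hq := pow_pos hp.pos v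
      -- first the positions above the valuation
      have hhigh : ∀ l', v < l' → p ^ l' < n → coeff (pr (p ^ l') (n - p ^ l')) F = 0 := by
        intro l' hv' hl'
        rw [hF.symm, show coeff (pr (n - p ^ l') (p ^ l')) F = coeff (pr (n - p ^ l') (n - (n - p ^ l'))) F by
          rw [show n - (n - p ^ l') = p ^ l' by omega]]
        refine hF.step p (by have := pow_pos hp.pos l'; omega) ?_ hb0
        obtain ⟨d, rfl⟩ := Nat.exists_eq_add_of_lt hv'
        have e : p ^ (v + d + 1) = p ^ v * (p ^ d * p) := by rw [pow_succ, pow_add, mul_assoc]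
        rw [hk, e, ← Nat.mul_sub, Nat.mul_div_cancel_left _ hq]
        intro hmod
        have h4 : p ^ d * p < k := by rw [hk, e] at hl'; exact Nat.lt_of_mul_lt_mul_left hl'
        exact hknd (by
          have := Nat.dvd_add (Nat.dvd_of_mod_eq_zero hmod) (dvd_mul_left p (p ^ d))
          rwa [Nat.sub_add_cancel h4.le] at this)
      rcases lt_trichotomy l v with h | h | h
      · rw [hsym]
        have hk2 : 2 ≤ k := by
          by_contra hk2
          have : p ^ v * k ≤ p ^ v * 1 := Nat.mul_le_mul_left _ (by omega)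
          omega
        have h1 : p ^ l < p ^ v := Nat.pow_lt_pow_right hp.one_lt h
        have h2 : p ^ v * 2 ≤ n := hk ▸ Nat.mul_le_mul_left _ hk2
        have hge : 1 ≤ (n - p ^ l) / p ^ v := (Nat.one_le_div_iff hq).mpr (by omega)
        obtain ⟨d, hd⟩ := exists_digit p ((n - p ^ l) / p ^ v) (by omega)
        rw [Nat.div_div_eq_div_mul, ← pow_add] at hd
        refine hF.step p hlt hd ?_
        rcases Nat.eq_zero_or_pos d with rfl | hd0
        · exact hb0
        refine hhigh (v + d) (by omega) ?_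
        by_contra hge'
        exact hd (by rw [Nat.div_eq_of_lt (by omega), Nat.zero_mod])
      · subst h; exact hb0
      · exact hhigh l h hl
  ext e
  rw [eq_pr e, coeff_zero]
  generalize e 0 = i, e 1 = j
  rcases Nat.eq_zero_or_pos i with rfl | hi
  · exact h0n j
  rcases Nat.eq_zero_or_pos j with rfl | hj
  · rw [hF.symm]; exact h0n i
  obtain ⟨l, hl⟩ := exists_digit p i hi.ne'
  have hle : p ^ l ≤ i := by
    by_contra hlt
    exact hl (by rw [Nat.div_eq_of_lt (not_le.mp hlt), Nat.zero_mod])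
  have h := hF.step p (n := i + j) (by omega : i < i + j) hl (hpow (i + j) (by omega) l (by omega))
  rwa [Nat.add_sub_cancel_left] at h

theorem IsCoc.exists_decomp [CharP R p] {F : MvPolynomial (Fin 2) R} (hF : IsCoc F) (J : Ideal R)
    (hJ : ∀ e, coeff e F ∈ J) :
    ∃ (G : Polynomial R) (N : ℕ) (r : ℕ → R), F = cob G + ∑ i ∈ Finset.range N, C (r i) * twS p i ∧
      (∀ n, G.coeff n ∈ J) ∧ ∀ i, r i ∈ J := by
  classical
  have hp : p.Prime := Fact.out
  · skip
    let N := F.totalDegree + 1
    have hv : ∀ i j, N ≤ i + j → coeff (pr i j) F = 0 := fun i j h => coeff_eq_zero_of_totalDegree_lt (by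
      refine lt_of_lt_of_le (show F.totalDegree < i + j by omega) (le_of_eq ?_)
      rw [show (pr i j).support.sum (fun s => pr i j s) = ∑ s, pr i j s from
        Finset.sum_subset (Finset.subset_univ _) (fun s _ hs => by simpa using hs), Fin.sum_univ_two]
      simp)
    let β : ℕ → R := fun n => coeff (pr (p ^ base p n) (n - p ^ base p n)) F
    let g : ℕ → R := fun n =>
      if n = 0 then -coeff (pr 0 0) F
      else if ∃ m, n = p ^ (m + 1) then 0
      else Ring.inverse (n.choose (p ^ base p n) : R) * β n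
    let G : Polynomial R := ∑ n ∈ Finset.range N, Polynomial.C (g n) * Polynomial.X ^ n
    have hG : ∀ n, n < N → G.coeff n = g n := fun n hn => by
      simp [G, Polynomial.finsetSum_coeff, Polynomial.coeff_C_mul_X_pow, hn]
    have hG' : ∀ n, N ≤ n → G.coeff n = 0 := fun n hn => by
      simp [G, Polynomial.finsetSum_coeff, Polynomial.coeff_C_mul_X_pow, not_lt.mpr hn]
    have hg : ∀ n, g n ∈ J := fun n => by
      simp only [g, β]
      split_ifs
      · exact neg_mem (hJ _)
      · exact zero_mem _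
      · exact Ideal.mul_mem_left _ _ (hJ _)
    have hGJ : ∀ n, G.coeff n ∈ J := fun n => by
      rcases lt_or_ge n N with h | h
      · rw [hG n h]; exact hg n
      · rw [hG' n h]; exact zero_mem _
    refine ⟨G, N, fun m => β (p ^ (m + 1)), sub_eq_zero.mp (IsCoc.eq_zero p ?_ ?_ ?_), hGJ, fun i => hJ _⟩
    · exact hF.sub ((isCoc_cob G).add (Finset.sum_induction _ IsCoc (fun _ _ => IsCoc.add) isCoc_zero
        fun i _ => (isCoc_twS p i).C_mul _))
    · rw [coeff_sub, coeff_add, coeff_sum, coeff_cob_zero, hG 0 (by omega)]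
      rw [Finset.sum_eq_zero fun i _ => by
        rw [coeff_C_mul, coeff_twS_eq_zero p i (by simpa using (pow_ne_zero _ hp.ne_zero).symm), mul_zero]]
      simp [g]
    · intro n hn
      have hlt := pow_base_lt p hn
      have hsum : p ^ base p n + (n - p ^ base p n) = n := by omega
      rw [coeff_sub, coeff_add, coeff_sum, coeff_cob G _ _ (pow_pos hp.pos _) (by omega), hsum]
      simp only [coeff_C_mul]
      by_cases hm : ∃ m, n = p ^ (m + 1)
      · obtain ⟨m, rfl⟩ := hm
        have hG0 : G.coeff (p ^ (m + 1)) = 0 := by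
          rcases lt_or_ge (p ^ (m + 1)) N with h | h
          · rw [hG _ h]
            simp only [g, if_neg (show p ^ (m + 1) ≠ 0 from pow_ne_zero _ hp.ne_zero), if_pos (⟨m, rfl⟩ : ∃ k, p ^ (m + 1) = p ^ (k + 1))]
          · exact hG' _ h
        rw [hG0, mul_zero, zero_add, base_pow]
        rcases lt_or_ge m N with h | h
        · rw [Finset.sum_eq_single m, coeff_twS_base, mul_one]
          · simp only [β, base_pow, sub_self]
          · intro i _ hi
            rw [coeff_twS_eq_zero p i, mul_zero]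
            rw [base_pow] at hsum
            exact hsum.trans_ne fun he => hi (Nat.succ_injective (Nat.pow_right_injective hp.two_le he)).symm
          · intro h'; exact absurd (Finset.mem_range.mpr h) h'
        · rw [Finset.sum_eq_zero, sub_zero, hv]
          · rw [base_pow] at hsum
            have h1 := Nat.lt_pow_self hp.one_lt (n := m + 1)
            omega
          · intro i hi
            rw [coeff_twS_eq_zero p i, mul_zero]
            rw [base_pow] at hsum
            exact hsum.trans_ne fun he => absurd (Finset.mem_range.mp hi)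
              (by have := Nat.pow_right_injective hp.two_le he; omega)
      · rw [Finset.sum_eq_zero fun i _ => by
          rw [coeff_twS_eq_zero p i (fun he => hm ⟨i, hsum.symm.trans he⟩), mul_zero], add_zero]
        rcases lt_or_ge n N with h | h
        · have hu : IsUnit (n.choose (p ^ base p n) : R) := by
            rw [choose_pow_digit p]
            have h1 : ((n / p ^ base p n % p : ℕ) : ZMod p) ≠ 0 := fun h0 => by
              have h2 := Nat.eq_zero_of_dvd_of_lt ((ZMod.natCast_eq_zero_iff _ _).mp h0) (Nat.mod_lt _ hp.pos)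
              rw [base, if_neg hm] at h2
              obtain ⟨k, hk⟩ := pow_padicValNat_dvd (p := p) (n := n)
              rw [show n / p ^ padicValNat p n = k from Nat.div_eq_of_eq_mul_right (pow_pos hp.pos _) hk] at h2
              refine pow_succ_padicValNat_not_dvd (p := p) (n := n) (by omega) ?_
              rw [pow_succ]
              conv_rhs => rw [hk]
              exact Nat.mul_dvd_mul_left _ (Nat.dvd_of_mod_eq_zero h2)
            have h2 := (IsUnit.mk0 _ h1).map (ZMod.castHom (dvd_refl p) R)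
            rwa [map_natCast] at h2
          rw [hG n h]
          simp only [g, if_neg (show n ≠ 0 by omega), if_neg hm]
          rw [← mul_assoc, Ring.mul_inverse_cancel _ hu, one_mul, sub_self]
        · rw [hG' n h, mul_zero, sub_zero, hv _ _ (by omega)]

theorem symmetricCocycle_iff [CharP R p] (F : MvPolynomial (Fin 2) R) :
    IsCoc F ↔ ∃ (G : Polynomial R) (N : ℕ) (r : ℕ → R), F = cob G + ∑ i ∈ Finset.range N, C (r i) * twS p i := by
  constructor
  · intro hF
    obtain ⟨G, N, r, h, -, -⟩ := hF.exists_decomp p ⊤ fun _ => Submodule.mem_top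
    exact ⟨G, N, r, h⟩
  · rintro ⟨G, N, r, rfl⟩
    exact (isCoc_cob G).add (Finset.sum_induction _ IsCoc (fun _ _ => IsCoc.add) isCoc_zero
      fun i _ => (isCoc_twS p i).C_mul _)

end Groth.Agent.GaChar
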