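import Mathlib.RingTheory.PowerSeries.Substitution
import Mathlib.RingTheory.PowerSeries.Trunc
import Mathlib.RingTheory.PowerSeries.Exp
import Mathlib.RingTheory.MvPolynomial.Basic
import Mathlib.Algebra.CharP.Lemmas
import Mathlib.Data.Nat.Choose.Lucas
import Mathlib.Algebra.Field.ZMod
import Mathlib.Data.Nat.Prime.Factorial

/-! Characters of the formal additive group, read on coefficients. -/

set_option linter.unusedSectionVars false

namespace Groth.Agent.GaChar

universe u

variable {A : Type u} [CommRing A]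

/-- A formal character: `χ (X + Y) = χ X * χ Y`. -/
def IsChar (χ : PowerSeries A) : Prop :=
  PowerSeries.subst (MvPowerSeries.X 0 + MvPowerSeries.X 1 : MvPowerSeries (Fin 2) A) χ =
    PowerSeries.subst (MvPowerSeries.X 0 : MvPowerSeries (Fin 2) A) χ *
      PowerSeries.subst (MvPowerSeries.X 1 : MvPowerSeries (Fin 2) A) χ

theorem hasSubst_sum : PowerSeries.HasSubst (MvPowerSeries.X 0 + MvPowerSeries.X 1 : MvPowerSeries (Fin 2) A) :=
  PowerSeries.HasSubst.of_constantCoeff_zero (by simp)

/-- The exponent `(i, j)`. -/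
noncomputable def pr (i j : ℕ) : Fin 2 →₀ ℕ := Finsupp.single 0 i + Finsupp.single 1 j

@[simp] theorem pr_zero (i j : ℕ) : pr i j 0 = i := by simp [pr]
@[simp] theorem pr_one (i j : ℕ) : pr i j 1 = j := by simp [pr]

theorem eq_pr (e : Fin 2 →₀ ℕ) : e = pr (e 0) (e 1) := by
  ext k; fin_cases k <;> simp

theorem pr_inj {i j k l : ℕ} : pr i j = pr k l ↔ i = k ∧ j = l :=
  ⟨fun h => ⟨by simpa using DFunLike.congr_fun h 0, by simpa using DFunLike.congr_fun h 1⟩, fun h => by rw [h.1, h.2]⟩

theorem coeff_add_pow (d i j : ℕ) :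
    MvPowerSeries.coeff (pr i j) ((MvPowerSeries.X 0 + MvPowerSeries.X 1 : MvPowerSeries (Fin 2) A) ^ d) =
      if i + j = d then (d.choose i : A) else 0 := by
  classical
  rw [add_pow, map_sum]
  have key : ∀ m ∈ Finset.range (d + 1), MvPowerSeries.coeff (pr i j)
      ((MvPowerSeries.X 0 : MvPowerSeries (Fin 2) A) ^ m * MvPowerSeries.X 1 ^ (d - m) * (d.choose m : MvPowerSeries (Fin 2) A)) =
      if i = m ∧ j = d - m then (d.choose m : A) else 0 := fun m _ => by
    rw [MvPowerSeries.X_pow_eq, MvPowerSeries.X_pow_eq, MvPowerSeries.monomial_mul_monomial, one_mul,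
      show (d.choose m : MvPowerSeries (Fin 2) A) = MvPowerSeries.C (d.choose m : A) from (map_natCast _ _).symm,
      MvPowerSeries.coeff_mul_C, MvPowerSeries.coeff_monomial]
    change (if pr i j = pr m (d - m) then (1 : A) else 0) * _ = _
    simp only [pr_inj]
    split_ifs <;> simp
  rw [Finset.sum_congr rfl key]
  split_ifs with h
  · rw [Finset.sum_eq_single i]
    · rw [if_pos ⟨rfl, by omega⟩]
    · exact fun m _ hm => if_neg fun h' => hm h'.1.symm
    · exact fun hi => absurd (Finset.mem_range.mpr (by omega)) hi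
  · refine Finset.sum_eq_zero fun m hm => if_neg fun h' => h ?_
    have := Finset.mem_range.mp hm
    omega

theorem coeff_subst_sum (χ : PowerSeries A) (i j : ℕ) :
    MvPowerSeries.coeff (pr i j)
      (PowerSeries.subst (MvPowerSeries.X 0 + MvPowerSeries.X 1 : MvPowerSeries (Fin 2) A) χ) =
      ((i + j).choose i : A) * PowerSeries.coeff (i + j) χ := by
  rw [PowerSeries.coeff_subst hasSubst_sum, finsum_eq_single _ (i + j)]
  · rw [coeff_add_pow, if_pos rfl, smul_eq_mul, mul_comm]
  · intro d hd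
    rw [coeff_add_pow, if_neg (Ne.symm hd), smul_zero]

theorem coeff_subst_mul (χ : PowerSeries A) (i j : ℕ) :
    MvPowerSeries.coeff (pr i j)
      (PowerSeries.subst (MvPowerSeries.X 0 : MvPowerSeries (Fin 2) A) χ *
        PowerSeries.subst (MvPowerSeries.X 1 : MvPowerSeries (Fin 2) A) χ) =
      PowerSeries.coeff i χ * PowerSeries.coeff j χ := by
  classical
  rw [MvPowerSeries.coeff_mul, Finset.sum_eq_single (pr i 0, pr 0 j)]
  · rw [PowerSeries.coeff_subst_single, PowerSeries.coeff_subst_single, pr_zero, pr_one,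
      if_pos (by simp [pr]), if_pos (by simp [pr])]
  · rintro ⟨a, b⟩ hab hne
    rw [Finset.mem_antidiagonal] at hab
    rw [PowerSeries.coeff_subst_single, PowerSeries.coeff_subst_single]
    split_ifs with ha hb
    · exfalso
      have h0 := DFunLike.congr_fun hab 0
      have h1 := DFunLike.congr_fun hab 1
      have ha1 := DFunLike.congr_fun ha 1
      have hb0 := DFunLike.congr_fun hb 0
      simp at h0 h1 ha1 hb0
      refine hne (Prod.ext ?_ ?_)
      · rw [eq_pr a]; exact pr_inj.mpr ⟨by omega, ha1⟩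
      · rw [eq_pr b]; exact pr_inj.mpr ⟨hb0, by omega⟩
    all_goals simp
  · intro h
    exact absurd (Finset.mem_antidiagonal.mpr (by simp [pr])) h

theorem isChar_iff {χ : PowerSeries A} :
    IsChar χ ↔ ∀ i j : ℕ, ((i + j).choose i : A) * PowerSeries.coeff (i + j) χ =
      PowerSeries.coeff i χ * PowerSeries.coeff j χ := by
  refine ⟨fun h i j => ?_, fun h => ?_⟩
  · rw [← coeff_subst_sum, ← coeff_subst_mul, h]
  · ext e
    rw [eq_pr e, coeff_subst_sum, coeff_subst_mul, h]

theorem IsChar.mul {χ ψ : PowerSeries A} (hχ : IsChar χ) (hψ : IsChar ψ) : IsChar (χ * ψ) := by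
  unfold IsChar at *
  rw [PowerSeries.subst_mul hasSubst_sum, PowerSeries.subst_mul (PowerSeries.HasSubst.X 0),
    PowerSeries.subst_mul (PowerSeries.HasSubst.X 1), hχ, hψ]
  ring

theorem isChar_one : IsChar (1 : PowerSeries A) := by
  unfold IsChar
  rw [← PowerSeries.coe_substAlgHom hasSubst_sum, ← PowerSeries.coe_substAlgHom (PowerSeries.HasSubst.X 0),
    ← PowerSeries.coe_substAlgHom (PowerSeries.HasSubst.X 1)]
  simp

theorem coe_aeval (f : Polynomial A) (q : MvPolynomial (Fin 2) A) :
    ((Polynomial.aeval q f : MvPolynomial (Fin 2) A) : MvPowerSeries (Fin 2) A) =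
      Polynomial.aeval (q : MvPowerSeries (Fin 2) A) f := by
  have h := Polynomial.aeval_algHom_apply (MvPolynomial.coeToMvPowerSeries.algHom A) q f
  simp only [MvPolynomial.coeToMvPowerSeries.algHom_apply, Algebra.algebraMap_self, MvPowerSeries.map_id,
    RingHom.id_apply, id_eq] at h
  exact h.symm

theorem coeff_aeval_sum (f : Polynomial A) (i j : ℕ) :
    MvPolynomial.coeff (pr i j) (Polynomial.aeval (MvPolynomial.X 0 + MvPolynomial.X 1 : MvPolynomial (Fin 2) A) f) =
      ((i + j).choose i : A) * f.coeff (i + j) := by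
  rw [← MvPolynomial.coeff_coe, coe_aeval, MvPolynomial.coe_add, MvPolynomial.coe_X, MvPolynomial.coe_X,
    ← PowerSeries.subst_coe hasSubst_sum, coeff_subst_sum, Polynomial.coeff_coe]

theorem coeff_aeval_mul (f : Polynomial A) (i j : ℕ) :
    MvPolynomial.coeff (pr i j) (Polynomial.aeval (MvPolynomial.X 0 : MvPolynomial (Fin 2) A) f *
      Polynomial.aeval (MvPolynomial.X 1 : MvPolynomial (Fin 2) A) f) = f.coeff i * f.coeff j := by
  rw [← MvPolynomial.coeff_coe, MvPolynomial.coe_mul, coe_aeval, coe_aeval, MvPolynomial.coe_X, MvPolynomial.coe_X,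
    ← PowerSeries.subst_coe (PowerSeries.HasSubst.X 0), ← PowerSeries.subst_coe (PowerSeries.HasSubst.X 1),
    coeff_subst_mul, Polynomial.coeff_coe, Polynomial.coeff_coe]

/-- The polynomial form of the identity. -/
theorem isChar_coe_iff (f : Polynomial A) :
    IsChar (f : PowerSeries A) ↔
      Polynomial.aeval (MvPolynomial.X 0 + MvPolynomial.X 1 : MvPolynomial (Fin 2) A) f =
        Polynomial.aeval (MvPolynomial.X 0 : MvPolynomial (Fin 2) A) f *
          Polynomial.aeval (MvPolynomial.X 1 : MvPolynomial (Fin 2) A) f := by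
  have key := coe_aeval f
  unfold IsChar
  rw [← MvPolynomial.coe_inj (φ := Polynomial.aeval (MvPolynomial.X 0 + MvPolynomial.X 1 : MvPolynomial (Fin 2) A) f),
    MvPolynomial.coe_mul, key, key, key, MvPolynomial.coe_add, MvPolynomial.coe_X, MvPolynomial.coe_X,
    PowerSeries.subst_coe hasSubst_sum, PowerSeries.subst_coe (PowerSeries.HasSubst.X 0),
    PowerSeries.subst_coe (PowerSeries.HasSubst.X 1)]

section Rat

variable [Algebra ℚ A]

theorem coeff_rescale_exp (a : A) (n : ℕ) :
    PowerSeries.coeff n (PowerSeries.rescale a (PowerSeries.exp A)) = algebraMap ℚ A (1 / n.factorial) * a ^ n := by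
  rw [PowerSeries.coeff_rescale, PowerSeries.coeff_exp, mul_comm]

theorem rat_iff (χ : PowerSeries A) :
    (PowerSeries.constantCoeff χ = 1 ∧ IsChar χ) ↔ ∃ a : A, χ = PowerSeries.rescale a (PowerSeries.exp A) := by
  constructor
  · rintro ⟨h0, h⟩
    refine ⟨PowerSeries.coeff 1 χ, PowerSeries.ext fun n => ?_⟩
    rw [coeff_rescale_exp]
    induction n with
    | zero => simp [PowerSeries.coeff_zero_eq_constantCoeff, h0]
    | succ n ih =>
      have h1 := isChar_iff.mp h n 1
      rw [ih, Nat.choose_succ_self_right, ← map_natCast (algebraMap ℚ A)] at h1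
      have hn : algebraMap ℚ A ((1 : ℚ) / ((n + 1 : ℕ) : ℚ)) * algebraMap ℚ A ((n + 1 : ℕ) : ℚ) = 1 := by
        rw [← map_mul, one_div_mul_cancel (by positivity), map_one]
      calc PowerSeries.coeff (n + 1) χ
          = algebraMap ℚ A ((1 : ℚ) / ((n + 1 : ℕ) : ℚ)) *
              (algebraMap ℚ A ((n + 1 : ℕ) : ℚ) * PowerSeries.coeff (n + 1) χ) := by rw [← mul_assoc, hn, one_mul]
        _ = algebraMap ℚ A ((1 : ℚ) / ((n + 1 : ℕ) : ℚ) * (1 / n.factorial)) * PowerSeries.coeff 1 χ ^ (n + 1) := by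
            rw [h1, map_mul, pow_succ]; ring
        _ = _ := by congr 2; rw [Nat.factorial_succ]; push_cast; field_simp
  · rintro ⟨a, rfl⟩
    refine ⟨by rw [← PowerSeries.coeff_zero_eq_constantCoeff_apply, coeff_rescale_exp]; simp, isChar_iff.mpr fun i j => ?_⟩
    rw [coeff_rescale_exp, coeff_rescale_exp, coeff_rescale_exp, ← map_natCast (algebraMap ℚ A), ← mul_assoc,
      ← map_mul, mul_mul_mul_comm, ← map_mul, ← pow_add]
    congr 2
    have e : ((i + j).choose i : ℚ) * i.factorial * j.factorial = (i + j).factorial := by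
      have h := Nat.choose_mul_factorial_mul_factorial (n := i + j) (k := i) (Nat.le_add_right i j)
      rw [Nat.add_sub_cancel_left] at h
      exact_mod_cast h
    field_simp
    linear_combination e

end Rat

section Prime

variable (p : ℕ) [Fact p.Prime] [CharP A p]

theorem choose_lucas (n k : ℕ) : (n.choose k : A) = ((n % p).choose (k % p) : A) * ((n / p).choose (k / p) : A) := by
  rw [← Nat.cast_mul]
  exact (CharP.natCast_eq_natCast A p).mpr Choose.choose_modEq_choose_mod_mul_choose_div_nat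

theorem choose_mul_pow (m a b : ℕ) : ((a * p ^ m).choose (b * p ^ m) : A) = (a.choose b : A) := by
  have hp : 0 < p := (Fact.out : p.Prime).pos
  induction m with
  | zero => simp
  | succ m ih =>
    rw [choose_lucas p (a * p ^ (m + 1)), pow_succ, ← mul_assoc, ← mul_assoc, Nat.mul_mod_left, Nat.mul_mod_left,
      Nat.mul_div_cancel _ hp, Nat.mul_div_cancel _ hp, Nat.choose_self, Nat.cast_one, one_mul, ih]

theorem choose_split {m : ℕ} : ∀ {r : ℕ}, r < p ^ m → ∀ q : ℕ, ((q * p ^ m + r).choose r : A) = 1 := by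
  have hp : 0 < p := (Fact.out : p.Prime).pos
  induction m with
  | zero => intro r hr q; simp [Nat.lt_one_iff.mp (by simpa using hr)]
  | succ m ih =>
    intro r hr q
    have h1 : q * p ^ (m + 1) + r = r + (q * p ^ m) * p := by ring
    rw [choose_lucas p, h1, Nat.add_mul_mod_self_right, Nat.choose_self, Nat.cast_one, one_mul,
      Nat.add_mul_div_right _ _ hp, add_comm (r / p)]
    exact ih (Nat.div_lt_iff_lt_mul hp |>.mpr (by rw [← pow_succ]; exact hr)) q

theorem isUnit_factorial {j : ℕ} (h : j < p) : IsUnit (j.factorial : A) := by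
  have h1 : (j.factorial : ZMod p) ≠ 0 := fun h0 => absurd
    ((Nat.Prime.dvd_factorial Fact.out).mp ((ZMod.natCast_eq_zero_iff _ _).mp h0)) (not_le.mpr h)
  simpa using (IsUnit.mk0 _ h1).map (ZMod.castHom (dvd_refl p) A)

/-- The truncated exponential of `a X ^ (p ^ n)`. -/
noncomputable def expp (a : A) (n : ℕ) : Polynomial A :=
  ∑ j ∈ Finset.range p, Polynomial.C (Ring.inverse (j.factorial : A) * a ^ j) * Polynomial.X ^ (j * p ^ n)

theorem coeff_expp_zero (a : A) (k : ℕ) :
    (expp p a 0).coeff k = if k < p then Ring.inverse (k.factorial : A) * a ^ k else 0 := by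
  simp only [expp, Polynomial.finsetSum_coeff, Polynomial.coeff_C_mul_X_pow, pow_zero, mul_one, Finset.sum_ite_eq,
    Finset.mem_range]

theorem isChar_expp_zero {a : A} (ha : a ^ p = 0) : IsChar (expp p a 0 : PowerSeries A) := by
  rw [isChar_iff]
  intro i j
  simp only [Polynomial.coeff_coe, coeff_expp_zero]
  by_cases hij : i + j < p
  · rw [if_pos hij, if_pos (by omega), if_pos (by omega)]
    have e : ((i + j).choose i : A) * (i.factorial : A) * (j.factorial : A) = ((i + j).factorial : A) := by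
      rw [← Nat.cast_mul, ← Nat.cast_mul]
      congr 1
      have := Nat.choose_mul_factorial_mul_factorial (n := i + j) (k := i) (Nat.le_add_right i j)
      rwa [Nat.add_sub_cancel_left] at this
    obtain ⟨u, hu⟩ := isUnit_factorial (A := A) p (j := i) (by omega)
    obtain ⟨v, hv⟩ := isUnit_factorial (A := A) p (j := j) (by omega)
    obtain ⟨w, hw⟩ := isUnit_factorial (A := A) p hij
    rw [← hu, ← hv, ← hw, Ring.inverse_unit, Ring.inverse_unit, Ring.inverse_unit, pow_add]
    rw [← hu, ← hv, ← hw] at e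
    have e2 : ((i + j).choose i : A) * ((w⁻¹ : Aˣ) : A) = ((u⁻¹ : Aˣ) : A) * ((v⁻¹ : Aˣ) : A) := by
      linear_combination (((u⁻¹ : Aˣ) : A) * ((v⁻¹ : Aˣ) : A) * ((w⁻¹ : Aˣ) : A)) * e +
        (-((i + j).choose i : A) * ((w⁻¹ : Aˣ) : A) * (((v⁻¹ : Aˣ) : A) * (v : A))) * u.inv_mul +
        (-((i + j).choose i : A) * ((w⁻¹ : Aˣ) : A)) * v.inv_mul +
        (((u⁻¹ : Aˣ) : A) * ((v⁻¹ : Aˣ) : A)) * w.inv_mul
    linear_combination (a ^ i * a ^ j) * e2
  · rw [if_neg hij, mul_zero]
    by_cases hi : i < p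
    · by_cases hj : j < p
      · rw [if_pos hi, if_pos hj, mul_mul_mul_comm, ← pow_add, pow_eq_zero_of_le (Nat.le_of_not_lt hij) ha, mul_zero]
      · rw [if_neg hj, mul_zero]
    · rw [if_neg hi, zero_mul]

theorem isChar_expp {a : A} (ha : a ^ p = 0) (n : ℕ) : IsChar (expp p a n : PowerSeries A) := by
  have h0 := (isChar_coe_iff (expp p a 0)).mp (isChar_expp_zero p ha)
  rw [isChar_coe_iff]
  let F : MvPolynomial (Fin 2) A →ₐ[A] MvPolynomial (Fin 2) A :=
    MvPolynomial.aeval (fun s => (MvPolynomial.X s : MvPolynomial (Fin 2) A) ^ p ^ n)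
  have hq : ∀ q : MvPolynomial (Fin 2) A, Polynomial.aeval q (expp p a n) = Polynomial.aeval (q ^ p ^ n) (expp p a 0) :=
    fun q => by simp [expp, map_sum, ← pow_mul, mul_comm]
  have h := congrArg F h0
  simp only [map_mul, ← Polynomial.aeval_algHom_apply, map_add, F, MvPolynomial.aeval_X] at h
  rw [hq, hq, hq, add_pow_char_pow]
  exact h

theorem isChar_prod {a : ℕ → A} (ha : ∀ n, a n ^ p = 0) (m : ℕ) :
    IsChar ((∏ n ∈ Finset.range m, expp p (a n) n : Polynomial A) : PowerSeries A) := by
  induction m with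
  | zero => simpa using isChar_one
  | succ m ih => rw [Finset.prod_range_succ, Polynomial.coe_mul]; exact ih.mul (isChar_expp p (ha m) m)

theorem coeff_prod_succ (a : ℕ → A) (P : Polynomial A) {m : ℕ} (hP : ∀ n, p ^ m ≤ n → P.coeff n = 0) (n : ℕ) :
    (P * expp p (a m) m).coeff n = if n < p ^ (m + 1) then
      Ring.inverse ((n / p ^ m).factorial : A) * a m ^ (n / p ^ m) * P.coeff (n % p ^ m) else 0 := by
  have hpos : 0 < p ^ m := pow_pos (Fact.out : p.Prime).pos m
  rw [expp, Finset.mul_sum, Polynomial.finsetSum_coeff]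
  have key : ∀ j, (P * (Polynomial.C (Ring.inverse (j.factorial : A) * a m ^ j) * Polynomial.X ^ (j * p ^ m))).coeff n =
      if n / p ^ m = j then Ring.inverse (j.factorial : A) * a m ^ j * P.coeff (n % p ^ m) else 0 := fun j => by
    rw [mul_left_comm, Polynomial.coeff_C_mul, Polynomial.coeff_mul_X_pow']
    split_ifs with h h2 h3
    · rw [← h2, Nat.sub_eq_of_eq_add (Nat.mod_add_div' n (p ^ m)).symm]
    · rw [hP, mul_zero]
      by_contra hlt
      exact h2 (Nat.div_eq_of_lt_le h (by rw [Nat.succ_mul]; omega))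
    · exact absurd (h3 ▸ Nat.div_mul_le_self n (p ^ m)) h
    · rw [mul_zero]
  rw [Finset.sum_congr rfl fun j _ => key j, Finset.sum_ite_eq]
  simp only [Finset.mem_range, Nat.div_lt_iff_lt_mul hpos, ← pow_succ']

theorem coeff_prod_of_le {a : ℕ → A} : ∀ (m n : ℕ), p ^ m ≤ n →
    (∏ k ∈ Finset.range m, expp p (a k) k : Polynomial A).coeff n = 0 := by
  intro m
  induction m with
  | zero => intro n hn; simp [Polynomial.coeff_one, (show n ≠ 0 by simpa [Nat.one_le_iff_ne_zero] using hn)]
  | succ m ih =>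
    intro n hn
    rw [Finset.prod_range_succ, coeff_prod_succ p a _ ih, if_neg (not_lt.mpr hn)]

/-- A character is determined by the coefficients at the powers of `p`. -/
theorem IsChar.exists_prod {χ : PowerSeries A} (h0 : PowerSeries.constantCoeff χ = 1) (h : IsChar χ) :
    ∃ a : ℕ → A, (∀ n, a n ^ p = 0) ∧
      ∀ m : ℕ, PowerSeries.trunc (p ^ m) χ = ∏ n ∈ Finset.range m, expp p (a n) n := by
  have hp : p.Prime := Fact.out
  have hc := isChar_iff.mp h
  let c := fun n => PowerSeries.coeff n χ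
  have hj : ∀ (n j : ℕ), j < p → (j.factorial : A) * c (j * p ^ n) = c (p ^ n) ^ j := by
    intro n j
    induction j with
    | zero => intro; simp [c, h0]
    | succ j ih =>
      intro hjp
      have h1 := hc (j * p ^ n) (p ^ n)
      have e : j * p ^ n + p ^ n = (j + 1) * p ^ n := by ring
      rw [e, choose_mul_pow, Nat.choose_succ_self_right] at h1
      rw [Nat.factorial_succ, Nat.cast_mul, pow_succ, ← ih (by omega), mul_assoc]
      calc ((j + 1 : ℕ) : A) * ((j.factorial : A) * c ((j + 1) * p ^ n))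
          = (j.factorial : A) * (((j + 1 : ℕ) : A) * c ((j + 1) * p ^ n)) := by ring
        _ = _ := by rw [h1]; ring
  refine ⟨fun n => c (p ^ n), fun n => ?_, fun m => ?_⟩
  · have h1 := hc ((p - 1) * p ^ n) (p ^ n)
    have e : (p - 1) * p ^ n + p ^ n = p * p ^ n := by
      rw [← Nat.succ_mul, Nat.succ_eq_add_one, Nat.sub_add_cancel hp.one_le]
    have hch : p.choose (p - 1) = p := by
      conv_lhs => rw [← Nat.choose_symm (Nat.sub_le p 1), Nat.sub_sub_self hp.one_le, Nat.choose_one_right]
    rw [e, choose_mul_pow, hch, CharP.cast_eq_zero, zero_mul] at h1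
    have h2 := congrArg (((p - 1).factorial : A) * ·) h1
    simp only [mul_zero, ← mul_assoc] at h2
    rw [hj n (p - 1) (by have := hp.one_le; omega), ← pow_succ, Nat.sub_add_cancel hp.one_le] at h2
    exact h2.symm
  · induction m with
    | zero =>
      ext n
      rw [PowerSeries.coeff_trunc, Finset.prod_range_zero, Polynomial.coeff_one, pow_zero]
      split_ifs with h1 h2 h2
      · rw [h2]; simpa using h0
      · omega
      · omega
      · rfl
    | succ m ih =>
      ext n
      rw [Finset.prod_range_succ, coeff_prod_succ p (fun n => c (p ^ n)) _ (coeff_prod_of_le p m),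
        PowerSeries.coeff_trunc]
      have hpos : 0 < p ^ m := pow_pos hp.pos m
      split_ifs with hn
      · have hq : n / p ^ m < p := (Nat.div_lt_iff_lt_mul hpos).mpr (by rw [← pow_succ']; exact hn)
        rw [← ih, PowerSeries.coeff_trunc, if_pos (Nat.mod_lt _ hpos)]
        obtain ⟨w, hw⟩ := isUnit_factorial (A := A) p hq
        rw [← hj m _ hq, ← hw, Ring.inverse_unit, ← mul_assoc, Units.inv_mul, one_mul, ← hc,
          Nat.div_add_mod' n (p ^ m)]
        have e : ((n : ℕ).choose (n / p ^ m * p ^ m) : A) = 1 := by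
          rw [← Nat.choose_symm (Nat.div_mul_le_self _ _)]
          have h3 := choose_split (A := A) p (Nat.mod_lt n hpos) (n / p ^ m)
          rw [Nat.div_add_mod' n (p ^ m)] at h3
          rwa [Nat.sub_eq_of_eq_add (Nat.mod_add_div' n (p ^ m)).symm]
        rw [e, one_mul]
      · rfl

theorem isChar_of_trunc {χ : PowerSeries A} {a : ℕ → A} (ha : ∀ n, a n ^ p = 0)
    (h : ∀ m : ℕ, PowerSeries.trunc (p ^ m) χ = ∏ n ∈ Finset.range m, expp p (a n) n) :
    PowerSeries.constantCoeff χ = 1 ∧ IsChar χ := by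
  have hp : p.Prime := Fact.out
  refine ⟨?_, isChar_iff.mpr fun i j => ?_⟩
  · have h1 := congrArg (fun f => Polynomial.coeff f 0) (h 0)
    simpa [PowerSeries.coeff_trunc] using h1
  obtain ⟨m, hm⟩ : ∃ m, i + j < p ^ m := ⟨i + j, Nat.lt_pow_self hp.one_lt⟩
  have hc := isChar_iff.mp (isChar_prod p ha m) i j
  simp only [Polynomial.coeff_coe, ← h m, PowerSeries.coeff_trunc] at hc
  rwa [if_pos hm, if_pos (by omega), if_pos (by omega)] at hc

theorem eval_zero_expp (a : A) (n : ℕ) : (expp p a n).eval 0 = 1 := by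
  have hp : p.Prime := Fact.out
  rw [expp, Polynomial.eval_finsetSum, Finset.sum_eq_single 0]
  · simp
  · intro j _ hj
    simp [hj, hp.ne_zero]
  · intro h
    exact absurd (Finset.mem_range.mpr hp.pos) h

theorem trunc_coe {f : Polynomial A} {N : ℕ} (h : f.natDegree < N) :
    PowerSeries.trunc N (f : PowerSeries A) = f := by
  ext n
  rw [PowerSeries.coeff_trunc, Polynomial.coeff_coe]
  split_ifs with hn
  · rfl
  · exact (Polynomial.coeff_eq_zero_of_natDegree_lt (by omega)).symm

theorem eq_prod_of_isChar {f : Polynomial A} (h0 : f.eval 0 = 1) (h : IsChar (f : PowerSeries A)) {m : ℕ}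
    (hdeg : f.natDegree < p ^ m) :
    ∃ a : ℕ → A, (∀ n, a n ^ p = 0) ∧ f = ∏ n ∈ Finset.range m, expp p (a n) n := by
  obtain ⟨a, ha, hprod⟩ := IsChar.exists_prod p (χ := (f : PowerSeries A))
    (by rw [← PowerSeries.coeff_zero_eq_constantCoeff_apply, Polynomial.coeff_coe, Polynomial.coeff_zero_eq_eval_zero,
      h0]) h
  exact ⟨a, ha, (trunc_coe hdeg).symm.trans (hprod m)⟩

end Prime

end Groth.Agent.GaChar
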