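import Groth.Agent.PBasisLib.Field

/-! Absolute differentials detect `p`-th powers. -/

namespace Groth.Agent.GaChar

universe u

variable (p : ℕ) [hp : Fact p.Prime]

open Groth.Agent.PBasisLib in
theorem D_ne_zero_of_not_pow {K : Type u} [Field K] [CharP K p] {x : K} (hx : ∀ y : K, y ^ p ≠ x) :
    KaehlerDifferential.D (⊥ : Subfield K) K x ≠ 0 := by
  have hle : Fp p (⊥ : Subfield K) (∅ : Set K) ≤
      (frobenius K p).fieldRange.toIntermediateField (fun a => (bot_le : (⊥ : Subfield K) ≤ _) a.2) := by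
    rw [Fp, IntermediateField.adjoin_le_iff, Set.union_empty]
    rintro _ ⟨w, rfl⟩
    exact ⟨w, frobenius_def p w⟩
  have hfree : Free p (⊥ : Subfield K) (fun _ : PUnit.{u + 1} => x) := fun a ha => by
    rw [show {b : PUnit.{u + 1} | b ≠ a} = ∅ from Set.eq_empty_iff_forall_notMem.mpr fun b hb => hb rfl,
      Set.image_empty] at ha
    obtain ⟨y, hy⟩ := hle ha
    exact hx y ((frobenius_def p y).symm.trans hy)
  exact ((free_iff_linearIndependent_D p (⊥ : Subfield K) _).mp hfree).ne_zero PUnit.unit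

/-- If `a • dx = 0` with `x` not a `p`-th power in the fraction field then `a = 0`. -/
theorem smul_D_eq_zero {A : Type u} [CommRing A] {K : Type u} [Field K] [CharP K p] [Algebra A K] {x : A}
    (hx : ∀ y : K, y ^ p ≠ algebraMap A K x) {a : A} (h : a • KaehlerDifferential.D ℤ A x = 0) :
    algebraMap A K a = 0 := by
  let δ : Derivation ℤ A (KaehlerDifferential (⊥ : Subfield K) K) :=
    ((KaehlerDifferential.D (⊥ : Subfield K) K).restrictScalars ℤ).compAlgebraMap A
  have h1 := congrArg δ.liftKaehlerDifferential h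
  rw [map_smul, map_zero, Derivation.liftKaehlerDifferential_comp_D] at h1
  have h2 : algebraMap A K a • KaehlerDifferential.D (⊥ : Subfield K) K (algebraMap A K x) = 0 := by
    rw [algebraMap_smul]; exact h1
  exact (smul_eq_zero.mp h2).resolve_right (D_ne_zero_of_not_pow p hx)

theorem exists_pow_eq {A : Type u} [CommRing A] [IsDomain A] [IsIntegrallyClosed A] [CharP A p] {s : A}
    (hs : KaehlerDifferential.D ℤ A s = 0) : ∃ f : A, f ^ p = s := by
  haveI : CharP (FractionRing A) p := charP_of_injective_algebraMap (IsFractionRing.injective A (FractionRing A)) p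
  by_contra hne
  push_neg at hne
  refine one_ne_zero (α := FractionRing A) ?_
  rw [← map_one (algebraMap A (FractionRing A))]
  refine smul_D_eq_zero p (x := s) (fun y hy => ?_) (by rw [hs, smul_zero])
  have hint : IsIntegral A y := IsIntegral.of_pow hp.out.pos (hy ▸ isIntegral_algebraMap)
  obtain ⟨f, hf⟩ := IsIntegrallyClosed.isIntegral_iff.mp hint
  exact hne f (IsFractionRing.injective A (FractionRing A) (by rw [map_pow, hf, hy]))

section Dvr

variable {R : Type u} [CommRing R] [IsDomain R] [IsDiscreteValuationRing R] [CharP R p] {π : R} (hπ : Irreducible π)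
include hπ

theorem dvd_of_sum {a : Fin p → R} (h : π ^ p ∣ ∑ i : Fin p, π ^ (i : ℕ) * a i ^ p) : ∀ i, π ∣ a i := by
  have hprime : Prime π := hπ.prime
  by_contra hc
  push_neg at hc
  classical
  have hex : ∃ n, ∃ h : n < p, ¬ π ∣ a ⟨n, h⟩ := ⟨_, hc.choose.2, hc.choose_spec⟩
  let n := Nat.find hex
  obtain ⟨hn, hna⟩ := Nat.find_spec hex
  have hmin : ∀ i : Fin p, (i : ℕ) < n → π ∣ a i := fun i hi => by
    by_contra hi'
    exact Nat.find_min hex hi ⟨i.2, hi'⟩
  refine hna (hprime.dvd_of_dvd_pow (n := p) ?_)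
  rw [← mul_dvd_mul_iff_left (pow_ne_zero n hprime.ne_zero), ← pow_succ]
  rw [← Finset.add_sum_erase _ _ (Finset.mem_univ (⟨n, hn⟩ : Fin p))] at h
  refine (dvd_add_left (Finset.dvd_sum fun i hi => ?_)).mp ((pow_dvd_pow π hn).trans h)
  rcases lt_or_gt_of_ne (fun he => (Finset.mem_erase.mp hi).1 (Fin.ext he) : (i : ℕ) ≠ n) with hlt | hgt
  · exact dvd_mul_of_dvd_right ((pow_dvd_pow π hn).trans (pow_dvd_pow_of_dvd (hmin i hlt) p)) _
  · exact dvd_mul_of_dvd_left (pow_dvd_pow π hgt) _

theorem pow_dvd_of_sum_eq_zero : ∀ (m : ℕ) {a : Fin p → R}, ∑ i : Fin p, π ^ (i : ℕ) * a i ^ p = 0 → ∀ i, π ^ m ∣ a i := by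
  intro m
  induction m with
  | zero => intro a _ i; simp
  | succ m ih =>
    intro a ha i
    choose b hb using dvd_of_sum p hπ (a := a) (ha ▸ dvd_zero _)
    have : ∑ i : Fin p, π ^ (i : ℕ) * b i ^ p = 0 := by
      refine ((mul_eq_zero (a := π ^ p)).mp ?_).resolve_left (pow_ne_zero _ hπ.ne_zero)
      rw [← ha, Finset.mul_sum]
      exact Finset.sum_congr rfl fun i _ => by rw [hb i, mul_pow]; ring
    rw [hb i, pow_succ']
    exact mul_dvd_mul_left _ (ih this i)

theorem eq_zero_of_sum {a : Fin p → R} (h : ∑ i : Fin p, π ^ (i : ℕ) * a i ^ p = 0) (i : Fin p) : a i = 0 := by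
  by_contra hne
  obtain ⟨n, hn⟩ := IsDiscreteValuationRing.associated_pow_irreducible hne hπ
  have h1 : π ^ (n + 1) ∣ π ^ n := (pow_dvd_of_sum_eq_zero p hπ (n + 1) h i).trans hn.dvd
  rw [pow_dvd_pow_iff hπ.ne_zero hπ.not_isUnit] at h1
  omega

variable {K : Type u} [Field K] [CharP K p] [Algebra R K] [IsFractionRing R K]

theorem exists_den {ι : Type*} [Fintype ι] (y : ι → K) :
    ∃ (m : ℕ) (a : ι → R), ∀ i, algebraMap R K π ^ m * y i = algebraMap R K (a i) := by
  have key : ∀ i, ∃ (m : ℕ) (a : R), algebraMap R K π ^ m * y i = algebraMap R K a := fun i => by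
    obtain ⟨⟨r, s, hs⟩, hrs⟩ := IsLocalization.surj (nonZeroDivisors R) (y i)
    obtain ⟨m, u, rfl⟩ := IsDiscreteValuationRing.eq_unit_mul_pow_irreducible (nonZeroDivisors.ne_zero hs) hπ
    refine ⟨m, ((u⁻¹ : Rˣ) : R) * r, ?_⟩
    rw [map_mul, ← hrs, map_mul, map_pow, mul_comm (y i), ← mul_assoc (algebraMap R K ((u⁻¹ : Rˣ) : R)),
      ← mul_assoc, ← map_mul, Units.inv_mul, map_one, one_mul]
  choose m a ha using key
  refine ⟨Finset.univ.sup m, fun i => π ^ (Finset.univ.sup m - m i) * a i, fun i => ?_⟩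
  rw [map_mul, ← ha, map_pow, ← mul_assoc, ← pow_add, Nat.sub_add_cancel (Finset.le_sup (Finset.mem_univ i))]

theorem not_pow (y : K) : y ^ p ≠ algebraMap R K π := by
  intro hy
  obtain ⟨m, a, ha⟩ := exists_den hπ (fun _ : PUnit.{1} => y)
  have e : a PUnit.unit.{1} ^ p = π ^ (m * p) * π := IsFractionRing.injective R K (by
    rw [map_pow, ← ha, mul_pow, hy, map_mul, map_pow, pow_mul])
  have h2 : 2 ≤ p := hp.out.two_le
  let b : Fin p → R := fun i => if (i : ℕ) = 0 then a PUnit.unit.{1} else if (i : ℕ) = 1 then -(π ^ m) else 0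
  have hsum : ∑ i : Fin p, π ^ (i : ℕ) * b i ^ p = 0 := by
    rw [Finset.sum_eq_add (⟨0, hp.out.pos⟩ : Fin p) ⟨1, hp.out.one_lt⟩]
    · simp only [b, if_true, if_neg one_ne_zero, pow_zero, one_mul, pow_one, e]
      have hneg : (-(π ^ m)) ^ p = -(π ^ (m * p)) := by
        rw [← zero_sub, sub_pow_char, zero_pow hp.out.ne_zero, zero_sub, pow_mul]
      rw [hneg]; ring
    · intro h; simp [Fin.ext_iff] at h
    · intro i _ hi
      have hb : b i = 0 := by
        simp only [b, if_neg (fun h => hi.1 (Fin.ext h) : (i : ℕ) ≠ 0), if_neg (fun h => hi.2 (Fin.ext h) : (i : ℕ) ≠ 1)]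
      rw [hb, zero_pow hp.out.ne_zero, mul_zero]
    · simp
    · simp
  have h1 := eq_zero_of_sum p hπ hsum ⟨1, hp.out.one_lt⟩
  simp [b] at h1
  exact hπ.ne_zero h1.1

variable (kp : Subfield K) (hkp : ∀ x : K, x ∈ kp ↔ ∃ y : K, y ^ p = x) (hdeg : Module.finrank kp K = p)
include hkp hdeg

theorem linearIndependent_pow : LinearIndependent kp (fun i : Fin p => algebraMap R K π ^ (i : ℕ)) := by
  rw [Fintype.linearIndependent_iff]
  intro g hg
  choose y hy using fun i => (hkp (g i : K)).mp (g i).2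
  obtain ⟨m, a, ha⟩ := exists_den hπ y
  have hsum : ∑ i : Fin p, π ^ (i : ℕ) * a i ^ p = 0 := by
    refine IsFractionRing.injective R K ?_
    rw [map_sum, map_zero, ← mul_zero (algebraMap R K π ^ (m * p)), ← hg, Finset.mul_sum]
    refine Finset.sum_congr rfl fun i _ => ?_
    rw [map_mul, map_pow, map_pow, ← ha, mul_pow, hy, ← pow_mul, Subfield.smul_def, smul_eq_mul]
    ring
  intro i
  refine Subtype.ext ?_
  rw [← hy i]
  have h1 := ha i
  rw [eq_zero_of_sum p hπ hsum i, map_zero, mul_eq_zero] at h1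
  rw [h1.resolve_left (pow_ne_zero _ ((map_ne_zero_iff _ (IsFractionRing.injective R K)).mpr hπ.ne_zero))]
  simp [hp.out.ne_zero]

theorem existsUnique_sum (r : R) : ∃! c : Fin p → R, r = ∑ i : Fin p, π ^ (i : ℕ) * c i ^ p := by
  haveI : Nonempty (Fin p) := ⟨⟨0, hp.out.pos⟩⟩
  have hspan := (linearIndependent_pow p hπ kp hkp hdeg).span_eq_top_of_card_eq_finrank (by simp [hdeg])
  obtain ⟨g, hg⟩ := (Submodule.mem_span_range_iff_exists_fun kp).mp (hspan ▸ (Submodule.mem_top (x := algebraMap R K r)))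
  choose y hy using fun i => (hkp (g i : K)).mp (g i).2
  obtain ⟨m, a, ha⟩ := exists_den hπ y
  have hsum : r * π ^ (m * p) = ∑ i : Fin p, π ^ (i : ℕ) * a i ^ p := by
    refine IsFractionRing.injective R K ?_
    rw [map_mul, map_sum, ← hg, Finset.sum_mul]
    refine Finset.sum_congr rfl fun i _ => ?_
    rw [map_mul, map_pow, map_pow, map_pow, ← ha, mul_pow, hy, Subfield.smul_def, smul_eq_mul]
    ring
  clear ha hy y hg g hspan
  have hex : ∃ c : Fin p → R, r = ∑ i : Fin p, π ^ (i : ℕ) * c i ^ p := by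
    induction m generalizing a with
    | zero => exact ⟨a, by simpa using hsum⟩
    | succ m ih =>
      choose b hb using dvd_of_sum p hπ (a := a) (hsum ▸ dvd_mul_of_dvd_right (pow_dvd_pow π (by rw [Nat.succ_mul]; omega)) _)
      refine ih b (mul_left_cancel₀ (pow_ne_zero p hπ.ne_zero) ?_)
      rw [Finset.mul_sum, show π ^ p * (r * π ^ (m * p)) = r * π ^ ((m + 1) * p) by rw [Nat.succ_mul, pow_add]; ring,
        hsum]
      exact Finset.sum_congr rfl fun i _ => by rw [hb i, mul_pow]; ring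
  obtain ⟨c, hc⟩ := hex
  refine ⟨c, hc, fun d hd => funext fun i => ?_⟩
  refine sub_eq_zero.mp (eq_zero_of_sum p hπ (a := fun i => d i - c i) ?_ i)
  have : CharP R p := inferInstance
  simp only [sub_pow_char, mul_sub, Finset.sum_sub_distrib, ← hd, ← hc, sub_self]

theorem bijective_smul_D : Function.Bijective (fun r : R => r • KaehlerDifferential.D ℤ R π) := by
  refine ⟨fun r s h => ?_, fun ω => ?_⟩
  · have h0 : (r - s) • KaehlerDifferential.D ℤ R π = 0 := by rw [sub_smul]; exact sub_eq_zero.mpr h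
    have := smul_D_eq_zero p (K := K) (not_pow p hπ) h0
    exact sub_eq_zero.mp (IsFractionRing.injective R K (this.trans (map_zero _).symm))
  · suffices h : ⊤ ≤ Submodule.span R {KaehlerDifferential.D ℤ R π} by
      exact Submodule.mem_span_singleton.mp (h Submodule.mem_top)
    rw [← KaehlerDifferential.span_range_derivation, Submodule.span_le]
    rintro _ ⟨r, rfl⟩
    obtain ⟨c, hc, -⟩ := existsUnique_sum p hπ kp hkp hdeg r
    rw [hc, map_sum]
    refine Submodule.sum_mem _ fun i _ => ?_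
    have hpow : KaehlerDifferential.D ℤ R (c i ^ p) = 0 := by
      rw [Derivation.leibniz_pow, ← Nat.cast_smul_eq_nsmul R, CharP.cast_eq_zero, zero_smul]
    rw [Derivation.leibniz, hpow, smul_zero, zero_add, Derivation.leibniz_pow]
    exact Submodule.smul_mem _ _ (Submodule.smul_of_tower_mem _ _ (Submodule.smul_mem _ _ (Submodule.mem_span_singleton_self _)))

end Dvr

end Groth.Agent.GaChar
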