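import Mathlib.AlgebraicGeometry.AffineSpace
import Mathlib.RingTheory.MvPolynomial.Basic
import Mathlib.RingTheory.Polynomial.Nilpotent
import Mathlib.RingTheory.MvPolynomial.Localization

/-! Global units of affine space over a reduced scheme. -/

namespace Groth.Agent.GaChar

open CategoryTheory CategoryTheory.Limits AlgebraicGeometry

universe u

variable (n : Type u)

/-- The projection to the base followed by the zero section. -/
noncomputable def retr (X : Scheme.{u}) : 𝔸(n; X) ⟶ 𝔸(n; X) := AffineSpace.homOfVector (𝔸(n; X) ↘ X) 0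

theorem retr_over (X : Scheme.{u}) : retr n X ≫ 𝔸(n; X) ↘ X = 𝔸(n; X) ↘ X :=
  AffineSpace.homOfVector_over _ _

theorem retr_coord (X : Scheme.{u}) (i : n) : (retr n X).appTop (AffineSpace.coord X i) = 0 :=
  AffineSpace.homOfVector_appTop_coord _ _ _

theorem appTop_comp {X Y Z : Scheme.{u}} (f : X ⟶ Y) (g : Y ⟶ Z) (z : Γ(Z, ⊤)) :
    (f ≫ g).appTop z = f.appTop (g.appTop z) := rfl

theorem retr_unit_affine (R : CommRingCat.{u}) [IsReduced (Spec R)] (w : Γ(𝔸(n; Spec R), ⊤)) (hw : IsUnit w) :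
    (retr n (Spec R)).appTop w = w := by
  haveI : _root_.IsReduced R := (affine_isReduced_iff R).mp inferInstance
  let P : CommRingCat.{u} := .of (MvPolynomial n R)
  obtain ⟨c, -, hc⟩ := MvPolynomial.isUnit_iff_eq_C_of_isReduced.mp
    ((hw.map (AffineSpace.SpecIso n R).inv.appTop.hom).map (Scheme.ΓSpecIso P).hom.hom)
  have h : w = (𝔸(n; Spec R) ↘ Spec R).appTop ((Scheme.ΓSpecIso R).inv c) := by
    have hinj : Function.Injective (AffineSpace.SpecIso n R).inv.appTop.hom := fun a b hab => by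
      have h2 := congrArg (AffineSpace.SpecIso n R).hom.appTop hab
      rw [show (AffineSpace.SpecIso n R).inv.appTop.hom a = (AffineSpace.SpecIso n R).inv.appTop a from rfl] at h2
      have h3 : ∀ z, (AffineSpace.SpecIso n R).hom.appTop ((AffineSpace.SpecIso n R).inv.appTop z) = z := fun z => by
        rw [← appTop_comp, Iso.hom_inv_id]
        rfl
      exact (h3 a).symm.trans (h2.trans (h3 b))
    apply hinj
    show _ = (AffineSpace.SpecIso n R).inv.appTop ((𝔸(n; Spec R) ↘ Spec R).appTop ((Scheme.ΓSpecIso R).inv c))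
    rw [← appTop_comp, AffineSpace.SpecIso_inv_over]
    have hn := congrArg (fun ψ => (ConcreteCategory.hom ψ) c)
      (Scheme.ΓSpecIso_inv_naturality (CommRingCat.ofHom (MvPolynomial.C : R →+* MvPolynomial n R)))
    refine Eq.trans ?_ hn
    show _ = (Scheme.ΓSpecIso P).inv (MvPolynomial.C c)
    rw [← hc]
    exact ((Scheme.ΓSpecIso P).hom_inv_id_apply _).symm
  rw [h, ← appTop_comp, retr_over]

theorem map_retr {S T : Scheme.{u}} (f : S ⟶ T) :
    AffineSpace.map n f ≫ retr n T = retr n S ≫ AffineSpace.map n f := by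
  refine AffineSpace.hom_ext ?_ fun i => ?_
  · rw [Category.assoc, Category.assoc, retr_over, AffineSpace.map_over, ← Category.assoc, retr_over]
  · rw [appTop_comp, appTop_comp, retr_coord, map_zero, AffineSpace.map_appTop_coord, retr_coord]

theorem retr_unit (X : Scheme.{u}) [IsReduced X] (w : Γ(𝔸(n; X), ⊤)) (hw : IsUnit w) :
    (retr n X).appTop w = w := by
  let 𝒰 := X.affineOpenCover
  refine Scheme.OpenCover.ext_elem _ _ (Precoverage.ZeroHypercover.pullback₁ (𝔸(n; X) ↘ X) 𝒰.openCover) fun i => ?_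
  let R := 𝒰.X i
  let f : Spec R ⟶ X := 𝒰.f i
  have : IsOpenImmersion f := 𝒰.map_prop i
  have : IsReduced (Spec R) := isReduced_of_isOpenImmersion f
  let a := (AffineSpace.isPullback_map (n := n) f).isoPullback
  have hfst : a.hom ≫ pullback.fst (𝔸(n; X) ↘ X) f = AffineSpace.map n f :=
    IsPullback.isoPullback_hom_fst _
  show (pullback.fst (𝔸(n; X) ↘ X) f).appTop _ = (pullback.fst (𝔸(n; X) ↘ X) f).appTop _
  have : Function.Injective a.hom.appTop.hom := fun x y hxy => by
    have h2 : a.inv.appTop (a.hom.appTop x) = a.inv.appTop (a.hom.appTop y) := congrArg a.inv.appTop hxy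
    rw [← appTop_comp, ← appTop_comp, Iso.inv_hom_id] at h2
    exact h2
  apply this
  show (a.hom ≫ pullback.fst (𝔸(n; X) ↘ X) f).appTop _ = (a.hom ≫ pullback.fst (𝔸(n; X) ↘ X) f).appTop _
  rw [hfst, ← appTop_comp, map_retr, appTop_comp,
    retr_unit_affine n R _ (hw.map (AffineSpace.map n f).appTop.hom)]

theorem exists_unit (X : Scheme.{u}) [IsReduced X] (w : Γ(𝔸(n; X), ⊤)) (hw : IsUnit w) :
    ∃ v : Γ(X, ⊤), IsUnit v ∧ (𝔸(n; X) ↘ X).appTop v = w := by
  refine ⟨(AffineSpace.homOfVector (n := n) (𝟙 X) 0).appTop w, hw.map _, ?_⟩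
  rw [← appTop_comp]
  rw [show 𝔸(n; X) ↘ X ≫ AffineSpace.homOfVector (𝟙 X) 0 = retr n X from ?_, retr_unit n X w hw]
  refine AffineSpace.hom_ext ?_ fun i => ?_
  · rw [Category.assoc, AffineSpace.homOfVector_over, Category.comp_id, retr_over]
  · rw [appTop_comp, AffineSpace.homOfVector_appTop_coord, retr_coord]
    exact map_zero _

end Groth.Agent.GaChar
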